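import Groth.Agent.H98N2.Basic

set_option autoImplicit false
universe u

open TensorProduct IsLocalRing

set_option maxHeartbeats 400000

/-!
# Purely inseparable extensions of excellent DVRs
-/

namespace Groth.Agent.H98N2

lemma isReduced_of_isRegularRing (A : Type u) [CommRing A] [IsRegularRing A] : IsReduced A := by
  refine isReduced_ofLocalizationMaximal A fun P hP => ?_
  have := CAlg1.isDomain_regular (Localization.AtPrime P)
  infer_instance

lemma isRegularHom_cpl {R : Type u} [CommRing R] [IsNoetherianRing R] [IsLocalRing R] (h : CAlg.IsGRing R) :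
    CAlg.IsRegularHom R (AdicCompletion (maximalIdeal R) R) := by
  let R' := Localization.AtPrime (maximalIdeal R)
  have hu : (maximalIdeal R).primeCompl ≤ IsUnit.submonoid R := fun x hx => by
    simpa [IsUnit.mem_submonoid_iff] using hx
  let e : R ≃+* R' := (IsLocalization.atUnits R (maximalIdeal R).primeCompl hu).toRingEquiv
  obtain ⟨f, hf⟩ := EGA4H10.exists_cpl_equiv e
  refine EGA4H10.isRegularHom_of_ringEquiv e.symm f.symm (fun r => ?_) (h.2 (maximalIdeal R))
  apply f.injective
  rw [f.apply_symm_apply, hf, e.apply_symm_apply]

variable (R K L : Type u) [CommRing R] [IsDomain R] [IsDiscreteValuationRing R] [Field K] [Algebra R K]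
  [IsFractionRing R K] [Field L] [Algebra K L] [FiniteDimensional K L]
  [Algebra R L] [IsScalarTower R K L]

include K in
lemma isReduced_tensor (h : CAlg.IsGRing R) :
    IsReduced (AdicCompletion (maximalIdeal R) R ⊗[R] L) := by
  have hreg := isRegularHom_cpl h
  obtain ⟨-, hG⟩ := hreg.2 (⊥ : Ideal R)
  let κ := (⊥ : Ideal R).ResidueField
  let e : κ ≃ₐ[R] K := IsLocalization.algEquiv (nonZeroDivisors R) κ K
  let : Algebra κ L := ((algebraMap K L).comp e.toRingEquiv.toRingHom).toAlgebra
  let : Algebra κ K := e.toRingEquiv.toRingHom.toAlgebra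
  have : IsScalarTower κ K L := .of_algebraMap_eq fun _ => rfl
  have : IsScalarTower R κ L := .of_algebraMap_eq fun r => by
    show algebraMap R L r = algebraMap K L (e (algebraMap R κ r))
    rw [e.commutes, ← IsScalarTower.algebraMap_apply]
  have : Module.Finite κ K := Module.Finite.of_surjective (Algebra.linearMap κ K) e.surjective
  have : Module.Finite κ L := Module.Finite.trans K L
  have := hG L inferInstance
  have := isReduced_of_isRegularRing (L ⊗[κ] ((⊥ : Ideal R).Fiber (AdicCompletion (maximalIdeal R) R)))
  let e1 := (Algebra.TensorProduct.cancelBaseChange R κ L L (AdicCompletion (maximalIdeal R) R)).toRingEquiv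
  let e2 := (Algebra.TensorProduct.comm R (AdicCompletion (maximalIdeal R) R) L).toRingEquiv
  exact isReduced_of_injective (e2.trans e1.symm) (e2.trans e1.symm).injective

variable [IsPurelyInseparable K L]

include K in
theorem dvr_integralClosure (h : CAlg.IsGRing R) :
    IsDiscreteValuationRing (integralClosure R L) ∧ Module.Finite R (integralClosure R L) := by
  have : Module.Flat R (AdicCompletion (maximalIdeal R) R) := (isRegularHom_cpl h).1
  have := isReduced_tensor R K L h
  have hfin := finite_integralClosure R K L
  refine ⟨?_, hfin⟩
  let S := integralClosure R L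
  have hinj : Function.Injective (algebraMap R S) := fun a b hab => by
    refine IsFractionRing.injective R K ((algebraMap K L).injective ?_)
    rw [← IsScalarTower.algebraMap_apply, ← IsScalarTower.algebraMap_apply]
    exact congrArg Subtype.val hab
  have : IsNoetherianRing S := IsNoetherianRing.of_finite R S
  have hint : Algebra.IsIntegral R S := inferInstance
  have : IsIntegrallyClosed S := integralClosure.isIntegrallyClosedOfFiniteExtension K
  have hdim : Ring.DimensionLEOne S := inferInstance
  have : IsDedekindDomain S := { }
  obtain ⟨q, hq0, hq⟩ := exists_pow_mem R K L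
  have : IsLocalRing S := by
    refine IsLocalRing.of_unique_max_ideal ?_
    obtain ⟨P, hP⟩ := Ideal.exists_maximal S
    refine ⟨P, hP, fun Q hQ => ?_⟩
    have hc : ∀ (M : Ideal S), M.IsMaximal → ∀ s : S, s ∈ M ↔ ∀ r : R, (s : L) ^ q = algebraMap R L r → r ∈ maximalIdeal R := by
      intro M hM s
      have hM' : (M.comap (algebraMap R S)) = maximalIdeal R :=
        IsLocalRing.eq_maximalIdeal (Ideal.isMaximal_comap_of_isIntegral_of_isMaximal M)
      constructor
      · intro hs r hr
        rw [← hM', Ideal.mem_comap, show algebraMap R S r = s ^ q from Subtype.ext hr.symm]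
        exact Ideal.pow_mem_of_mem M hs q hq0
      · intro hs
        obtain ⟨r, hr⟩ := hq s s.2
        refine hM.isPrime.mem_of_pow_mem q ?_
        rw [show s ^ q = algebraMap R S r from Subtype.ext hr]
        have : r ∈ M.comap (algebraMap R S) := hM'.symm ▸ hs r hr
        exact this
    exact Ideal.ext fun s => (hc Q hQ s).trans (hc P hP s).symm
  have hnf : ¬ IsField S := fun hf => by
    exact IsDiscreteValuationRing.not_isField R (isField_of_isIntegral_of_isField hinj hf)
  have hiff : IsDiscreteValuationRing S ↔ IsDedekindDomain S := (IsDiscreteValuationRing.TFAE S hnf).out 0 2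
  exact hiff.mpr inferInstance

end Groth.Agent.H98N2
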