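import Mathlib
import Groth.Agent.EGA4H10.GRingLoc
import Groth.Agent.CAlg1.Regular

set_option autoImplicit false
universe u

open TensorProduct IsLocalRing

set_option maxHeartbeats 400000

/-!
# Integral closure of a DVR in a purely inseparable extension, reduced formal fibre
-/

namespace Groth.Agent.H98N2

variable (R K L : Type u) [CommRing R] [IsDomain R] [IsDiscreteValuationRing R] [Field K] [Algebra R K]
  [IsFractionRing R K] [Field L] [Algebra K L] [FiniteDimensional K L] [IsPurelyInseparable K L]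
  [Algebra R L] [IsScalarTower R K L]

include K in
/-- A uniform exponent sending the integral closure into the base. -/
lemma exists_pow_mem : ∃ q : ℕ, 0 < q ∧ ∀ s ∈ integralClosure R L, ∃ r : R, s ^ q = algebraMap R L r := by
  refine ⟨ringExpChar K ^ IsPurelyInseparable.exponent K L, pow_pos (expChar_pos K (ringExpChar K)) _, fun s hs => ?_⟩
  obtain ⟨k, hk⟩ := IsPurelyInseparable.exponent_def K s
  have hint : IsIntegral R k := by
    refine (isIntegral_algebraMap_iff (B := L) (algebraMap K L).injective).mp ?_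
    rw [hk]
    exact IsIntegral.pow hs _
  obtain ⟨r, hr⟩ := IsIntegrallyClosed.isIntegral_iff.mp hint
  exact ⟨r, by rw [← hk, ← hr, ← IsScalarTower.algebraMap_apply]⟩

include K in
/-- The integral closure is a finite module when the tensor product with the completion is reduced. -/
theorem finite_integralClosure [Module.Flat R (AdicCompletion (maximalIdeal R) R)]
    [IsReduced (AdicCompletion (maximalIdeal R) R ⊗[R] L)] :
    Module.Finite R (integralClosure R L) := by
  classical
  obtain ⟨q, hq0, hq⟩ := exists_pow_mem R K L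
  obtain ⟨π, hπ⟩ := IsDiscreteValuationRing.exists_irreducible R
  have hm : maximalIdeal R = Ideal.span {π} := hπ.maximalIdeal_eq
  have hπ0 : algebraMap R L π ≠ 0 := by
    rw [IsScalarTower.algebraMap_apply R K L, map_ne_zero]
    exact fun h => hπ.ne_zero (IsFractionRing.injective R K (h.trans (map_zero _).symm))
  -- a finite subalgebra spanning `L`
  obtain ⟨s, bs, hbs⟩ := FiniteDimensional.exists_is_basis_integral R K L
  let B₀ : Subalgebra R L := Algebra.adjoin R (Set.range bs)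
  have hfg : B₀.toSubmodule.FG := fg_adjoin_of_finite (Set.finite_range bs) (by rintro _ ⟨i, rfl⟩; exact hbs i)
  have hfin : Module.Finite R B₀ := Module.Finite.iff_fg.mpr hfg
  have hle : B₀ ≤ integralClosure R L := Algebra.adjoin_le (by rintro _ ⟨i, rfl⟩; exact hbs i)
  have : FaithfulSMul R L := (faithfulSMul_iff_algebraMap_injective R L).mpr (by
    rw [IsScalarTower.algebraMap_eq R K L]
    exact (algebraMap K L).injective.comp (IsFractionRing.injective R K))
  have htf : Module.IsTorsionFree R B₀ := inferInstance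
  let ι := Module.Free.ChooseBasisIndex R B₀
  let b : Module.Basis ι R B₀ := Module.Free.chooseBasis R B₀
  -- every element of `L` is a multiple of an element of `B₀`
  have hspan : ∀ x : L, ∃ n : ℕ, algebraMap R L π ^ n * x ∈ B₀ := by
    intro x
    have hr : ∀ y : K, ∃ n : ℕ, ∃ r : R, algebraMap R K π ^ n * y = algebraMap R K r := by
      intro y
      obtain ⟨a, c, hc, rfl⟩ := IsFractionRing.div_surjective (A := R) y
      obtain ⟨n, u, rfl⟩ := IsDiscreteValuationRing.eq_unit_mul_pow_irreducible (nonZeroDivisors.ne_zero hc) hπ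
      refine ⟨n, a * ↑u⁻¹, ?_⟩
      have h1 : algebraMap R K (↑u⁻¹ : R) * algebraMap R K ↑u = 1 := by rw [← map_mul]; simp
      have h2 : algebraMap R K π ≠ 0 := fun h => hπ.ne_zero (IsFractionRing.injective R K (h.trans (map_zero _).symm))
      have h3 : algebraMap R K (↑u : R) ≠ 0 := right_ne_zero_of_mul_eq_one h1
      rw [map_mul (algebraMap R K) (↑u : R), map_mul, map_pow, show algebraMap R K (↑u⁻¹ : R) = (algebraMap R K (↑u : R))⁻¹ from eq_inv_of_mul_eq_one_left h1]
      field_simp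
    choose n r hnr using hr
    refine ⟨∑ i, n (bs.repr x i), ?_⟩
    conv => arg 2; arg 2; rw [← bs.sum_repr x]
    rw [Finset.mul_sum]
    refine Subalgebra.sum_mem _ fun i _ => ?_
    rw [Algebra.smul_def, ← Finset.sum_erase_add _ _ (Finset.mem_univ i), pow_add, mul_assoc, ← mul_assoc (algebraMap R L π ^ n _)]
    refine Subalgebra.mul_mem _ (Subalgebra.pow_mem _ (B₀.algebraMap_mem π) _) (Subalgebra.mul_mem _ ?_ (Algebra.subset_adjoin ⟨i, rfl⟩))
    rw [IsScalarTower.algebraMap_apply R K L, ← map_pow, ← map_mul, hnr, ← IsScalarTower.algebraMap_apply]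
    exact B₀.algebraMap_mem _
  -- the boundedness statement
  suffices hbd : ∃ N : ℕ, ∀ x ∈ integralClosure R L, algebraMap R L π ^ N * x ∈ B₀ by
    obtain ⟨N, hN⟩ := hbd
    let φ : integralClosure R L →ₗ[R] B₀ :=
      LinearMap.codRestrict B₀.toSubmodule ((LinearMap.mulLeft R (algebraMap R L π ^ N)).comp (integralClosure R L).val.toLinearMap)
        fun x => hN x x.2
    refine Module.Finite.of_injective φ fun x y hxy => Subtype.ext ?_
    exact mul_left_cancel₀ (pow_ne_zero _ hπ0) (congrArg Subtype.val hxy)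
  by_contra! hun
  -- the ideals `π ^ N S ∩ B₀`
  let incl : B₀ →ₐ[R] integralClosure R L := Subalgebra.inclusion hle
  let T : ℕ → Ideal B₀ := fun N => (Ideal.span {algebraMap R (integralClosure R L) π ^ N}).comap incl.toRingHom
  have hT : ∀ N (x : B₀), x ∈ T N ↔ ∃ s ∈ integralClosure R L, (x : L) = algebraMap R L π ^ N * s := fun N x => by
    simp only [T, Ideal.mem_comap, Ideal.mem_span_singleton']
    constructor
    · rintro ⟨a, ha⟩
      exact ⟨a, a.2, (congrArg Subtype.val ha).symm.trans (mul_comm _ _)⟩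
    · rintro ⟨s, hs, hxs⟩
      exact ⟨⟨s, hs⟩, Subtype.ext ((mul_comm _ _).trans hxs.symm)⟩
  have hanti : Antitone T := fun N M h x hx => by
    obtain ⟨k, rfl⟩ := Nat.exists_eq_add_of_le h
    rw [hT] at hx ⊢
    obtain ⟨s, hs, hxs⟩ := hx
    exact ⟨algebraMap R L π ^ k * s, mul_mem (pow_mem ((integralClosure R L).algebraMap_mem π) _) hs, by rw [hxs, pow_add, mul_assoc]⟩
  let π' : B₀ := algebraMap R B₀ π
  -- stabilisation modulo each power
  have hstab : ∀ j : ℕ, ∃ N₀, ∀ N, ∀ x ∈ T N₀, ∃ y ∈ T N, y - x ∈ Ideal.span {π' ^ j} := by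
    intro j
    let I : Ideal R := Ideal.span {π ^ j}
    have : IsArtinianRing (R ⧸ I) := by
      rcases eq_or_ne I ⊤ with h | h
      · have : Subsingleton (R ⧸ I) := Ideal.Quotient.subsingleton_iff.mpr h
        infer_instance
      · have : Nontrivial (R ⧸ I) := Ideal.Quotient.nontrivial_iff.mpr h
        refine isArtinianRing_iff_isNilpotent_maximalIdeal (R ⧸ I) |>.mpr ⟨j, ?_⟩
        rw [← IsLocalRing.map_maximalIdeal_of_surjective _ Ideal.Quotient.mk_surjective, hm, ← Ideal.map_pow,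
          Ideal.span_singleton_pow, Ideal.zero_eq_bot, Ideal.map_eq_bot_iff_le_ker, Ideal.mk_ker]
    let Q : Ideal B₀ := Ideal.span {π' ^ j}
    have hIQ : I ≤ Q.comap (algebraMap R B₀) := (Ideal.span_singleton_le_iff_mem _).mpr
      (by rw [Ideal.mem_comap, map_pow]; exact Ideal.mem_span_singleton_self _)
    let : Algebra (R ⧸ I) (B₀ ⧸ Q) := (Ideal.quotientMap Q (algebraMap R B₀) hIQ).toAlgebra
    have : IsScalarTower R (R ⧸ I) (B₀ ⧸ Q) := .of_algebraMap_eq fun r => rfl
    have : Module.Finite (R ⧸ I) (B₀ ⧸ Q) := Module.Finite.of_restrictScalars_finite R (R ⧸ I) (B₀ ⧸ Q)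
    have : IsArtinianRing (B₀ ⧸ Q) := IsArtinianRing.of_finite (R ⧸ I) _
    obtain ⟨N₀, hN₀⟩ := IsArtinian.monotone_stabilizes
      (⟨fun N => OrderDual.toDual ((T N).map (Ideal.Quotient.mk Q)), fun a b h => Ideal.map_mono (hanti h)⟩ : ℕ →o (Ideal (B₀ ⧸ Q))ᵒᵈ)
    refine ⟨N₀, fun N x hx => ?_⟩
    rcases le_total N N₀ with h | h
    · exact ⟨x, hanti h hx, by simp⟩
    · have hx' : Ideal.Quotient.mk Q x ∈ (T N).map (Ideal.Quotient.mk Q) := by
        have e : (T N₀).map (Ideal.Quotient.mk Q) = (T N).map (Ideal.Quotient.mk Q) := hN₀ N h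
        rw [← e]; exact Ideal.mem_map_of_mem _ hx
      obtain ⟨y, hy, hyx⟩ := (Ideal.mem_map_iff_of_surjective _ Ideal.Quotient.mk_surjective).mp hx'
      exact ⟨y, hy, Ideal.Quotient.eq.mp hyx⟩
  choose N₀ hN₀ using hstab
  -- a compatible sequence
  let P : ℕ → B₀ → Prop := fun j x => ∀ N, ∃ y ∈ T N, y - x ∈ Ideal.span {π' ^ j}
  obtain ⟨x₁, hx₁, hx₁'⟩ : ∃ x, P 1 x ∧ x ∉ Ideal.span {π'} := by
    obtain ⟨z, hz, hzN⟩ := hun (N₀ 1)
    obtain ⟨n, hn⟩ := hspan z
    have hex : ∃ n, algebraMap R L π ^ n * z ∈ B₀ := ⟨n, hn⟩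
    let n₀ := Nat.find hex
    have hn₀ : algebraMap R L π ^ n₀ * z ∈ B₀ := Nat.find_spec hex
    have hlt : N₀ 1 < n₀ := by
      by_contra hcon
      apply hzN
      obtain ⟨k, hk⟩ := Nat.exists_eq_add_of_le (not_lt.mp hcon)
      rw [hk, pow_add, mul_comm (algebraMap R L π ^ n₀), mul_assoc]
      exact Subalgebra.mul_mem _ (Subalgebra.pow_mem _ (B₀.algebraMap_mem π) _) hn₀
    refine ⟨⟨_, hn₀⟩, fun N => hN₀ 1 N _ (hanti hlt.le ((hT _ _).mpr ⟨z, hz, rfl⟩)), fun hmem => ?_⟩
    obtain ⟨a, ha⟩ := Ideal.mem_span_singleton'.mp hmem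
    refine Nat.find_min hex (m := n₀ - 1) (by omega) ?_
    have ha' : (a : L) * algebraMap R L π = algebraMap R L π ^ n₀ * z := congrArg Subtype.val ha
    rw [show n₀ = n₀ - 1 + 1 by omega, pow_succ, mul_right_comm] at ha'
    rw [← mul_right_cancel₀ hπ0 ha']
    exact a.2
  have hstep : ∀ j x, P j x → ∃ x', P (j + 1) x' ∧ x' - x ∈ Ideal.span {π' ^ j} := by
    intro j x hx
    obtain ⟨y, hy, hyx⟩ := hx (N₀ (j + 1))
    exact ⟨y, fun N => hN₀ (j + 1) N y hy, hyx⟩
  choose next hnext1 hnext2 using hstep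
  let seq : ∀ j : ℕ, {x : B₀ // P (j + 1) x} := fun j => Nat.rec ⟨x₁, hx₁⟩ (fun j x => ⟨next (j + 1) x x.2, hnext1 _ _ _⟩) j
  have hseq : ∀ j, (seq (j + 1)).1 - (seq j).1 ∈ Ideal.span {π' ^ (j + 1)} := fun j => hnext2 (j + 1) _ (seq j).2
  -- coordinates
  have hcoord : ∀ (j : ℕ) (x : B₀), x ∈ Ideal.span {π' ^ j} → ∀ i, b.repr x i ∈ maximalIdeal R ^ j := by
    intro j x hx i
    obtain ⟨a, rfl⟩ := Ideal.mem_span_singleton'.mp hx
    rw [show a * π' ^ j = π ^ j • a by rw [Algebra.smul_def, map_pow, mul_comm], map_smul, hm, Ideal.span_singleton_pow,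
      Ideal.mem_span_singleton]
    exact ⟨b.repr a i, rfl⟩
  have hcauchy : ∀ i, ∀ j, b.repr (seq j).1 i ≡ b.repr (seq (j + 1)).1 i [SMOD (maximalIdeal R ^ j • ⊤ : Ideal R)] := by
    intro i j
    rw [SModEq.sub_mem, smul_eq_mul, Ideal.mul_top]
    have := hcoord _ _ (hseq j) i
    rw [map_sub, Finsupp.sub_apply] at this
    have := Ideal.pow_le_pow_right (Nat.le_succ j) this
    rwa [← neg_sub, neg_mem_iff]
  let c : ι → AdicCompletion (maximalIdeal R) R := fun i =>
    AdicCompletion.mk _ R (AdicCompletion.AdicCauchySequence.mk _ R (fun j => b.repr (seq j).1 i) (hcauchy i))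
  -- evaluations
  let Ev : ∀ j : ℕ, AdicCompletion (maximalIdeal R) R ⊗[R] B₀ →ₐ[R] B₀ ⧸ Ideal.span {π' ^ j} := fun j =>
    Algebra.TensorProduct.lift
      ((Ideal.Quotient.liftₐ (maximalIdeal R ^ j) ((Ideal.Quotient.mkₐ R (Ideal.span {π' ^ j})).comp (Algebra.ofId R B₀))
        (fun r hr => by
          rw [hm, Ideal.span_singleton_pow, Ideal.mem_span_singleton'] at hr
          obtain ⟨a, rfl⟩ := hr
          rw [AlgHom.comp_apply, Ideal.Quotient.mkₐ_eq_mk, Ideal.Quotient.eq_zero_iff_mem, Algebra.ofId_apply, map_mul, map_pow]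
          exact Ideal.mul_mem_left _ _ (Ideal.mem_span_singleton_self _))).comp
        ((AdicCompletion.evalₐ (maximalIdeal R) j).restrictScalars R))
      (Ideal.Quotient.mkₐ R _) (fun _ _ => Commute.all _ _)
  let y : AdicCompletion (maximalIdeal R) R ⊗[R] B₀ := ∑ i, c i ⊗ₜ b i
  have hEv : ∀ j, Ev j y = Ideal.Quotient.mk _ (seq j).1 := by
    intro j
    conv_rhs => rw [← b.sum_repr (seq j).1]
    simp only [y, map_sum, Ev, Algebra.TensorProduct.lift_tmul, AlgHom.comp_apply, AlgHom.coe_restrictScalars',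
      c, AdicCompletion.evalₐ_mk, Algebra.smul_def, map_mul]
    rfl
  have hinj : ∀ z : AdicCompletion (maximalIdeal R) R ⊗[R] B₀, (∀ j, Ev j z = 0) → z = 0 := by
    intro z hz
    let bC := Algebra.TensorProduct.basis (AdicCompletion (maximalIdeal R) R) b
    refine bC.repr.injective (Finsupp.ext fun i => ?_)
    rw [map_zero, Finsupp.zero_apply]
    refine AdicCompletion.ext_evalₐ fun j => ?_
    have hz' := hz j
    rw [← bC.sum_repr z, map_sum] at hz'
    choose r hr using fun i => Ideal.Quotient.mk_surjective (AdicCompletion.evalₐ (maximalIdeal R) j (bC.repr z i))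
    have h0 : Ideal.Quotient.mk (Ideal.span {π' ^ j}) (∑ i, r i • b i) = 0 := by
      rw [← hz', map_sum]
      refine Finset.sum_congr rfl fun i _ => ?_
      simp only [bC, Algebra.TensorProduct.basis_apply, Algebra.TensorProduct.lift_tmul, smul_tmul', smul_eq_mul,
        mul_one, Ev, AlgHom.comp_apply, AlgHom.coe_restrictScalars', Algebra.smul_def, map_mul]
      rw [← hr i]
      rfl
    have h1 := hcoord j _ (Ideal.Quotient.eq_zero_iff_mem.mp h0) i
    rw [map_sum, Finsupp.finset_sum_apply] at h1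
    simp [Finsupp.single_apply] at h1
    rw [map_zero, ← hr i]
    exact Ideal.Quotient.eq_zero_iff_mem.mpr h1
  have hpow : y ^ q = 0 := hinj _ fun j => by
    rw [map_pow, hEv]
    obtain ⟨x, hx, hxs⟩ := (seq j).2 j
    have hxs' : Ideal.Quotient.mk (Ideal.span {π' ^ j}) x = Ideal.Quotient.mk _ (seq j).1 :=
      Ideal.Quotient.eq.mpr (Ideal.span_singleton_le_span_singleton.mpr (pow_dvd_pow _ (Nat.le_succ j)) hxs)
    rw [← hxs', ← map_pow (Ideal.Quotient.mk (Ideal.span {π' ^ j})) x q, Ideal.Quotient.eq_zero_iff_mem]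
    obtain ⟨s', hs', hxs''⟩ := (hT _ _).mp hx
    obtain ⟨r, hr⟩ := hq s' hs'
    refine Ideal.mem_span_singleton'.mpr ⟨π' ^ (j * q - j) * algebraMap R B₀ r, Subtype.ext ?_⟩
    show algebraMap R L π ^ (j * q - j) * algebraMap R L r * algebraMap R L π ^ j = (x : L) ^ q
    rw [hxs'', mul_pow, hr, ← pow_mul, mul_right_comm, ← pow_add,
      Nat.sub_add_cancel (Nat.le_mul_of_pos_right j hq0)]
  -- reducedness
  let incL : AdicCompletion (maximalIdeal R) R ⊗[R] B₀ →ₐ[R] AdicCompletion (maximalIdeal R) R ⊗[R] L :=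
    Algebra.TensorProduct.map (AlgHom.id R _) B₀.val
  have hincL : Function.Injective incL :=
    Module.Flat.lTensor_preserves_injective_linearMap (M := AdicCompletion (maximalIdeal R) R) B₀.val.toLinearMap Subtype.val_injective
  have hy : y = 0 := hincL (by
    rw [map_zero]
    exact IsReduced.eq_zero _ ⟨q, by rw [← map_pow, hpow, map_zero]⟩)
  refine hx₁' ?_
  have h1 := hEv 1
  rw [hy, map_zero, eq_comm, Ideal.Quotient.eq_zero_iff_mem] at h1
  have h2 : (seq 1).1 - (seq 0).1 ∈ Ideal.span {π'} := by simpa using hseq 0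
  simp only [pow_one] at h1
  have h3 := Ideal.sub_mem _ h1 h2
  rw [sub_sub_cancel] at h3
  exact h3

end Groth.Agent.H98N2
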